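import Mathlib
import Groth.Agent.QFDualLib.Ass
import Groth.Prelude.Def_Disc

/-! Associated primes of the dualizing module, in two universes. -/

universe u v

open TensorProduct

namespace Groth.Agent.DiscLib

open QFDualLib (mem_ass_iff)

variable {A : Type u} {B : Type v} [CommRing A] [CommRing B] [Algebra A B]
/-- A finite domain over a domain has a nonzero functional. -/
theorem exists_functional_ne_zero {R : Type u} {D : Type v} [CommRing R] [IsDomain R] [CommRing D] [IsDomain D]
    [Algebra R D] [Module.Finite R D] (hinj : Function.Injective (algebraMap R D)) :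
    ∃ ψ : D →ₗ[R] R, ψ 1 ≠ 0 := by
  classical
  haveI : FaithfulSMul R (FractionRing D) := (faithfulSMul_iff_algebraMap_injective _ _).2 (by
    rw [IsScalarTower.algebraMap_eq R D (FractionRing D)]
    exact (IsFractionRing.injective D (FractionRing D)).comp hinj)
  letI := FractionRing.liftAlgebra R (FractionRing D)
  obtain ⟨ℓ, hℓ⟩ : ∃ ℓ : Module.Dual (FractionRing R) (FractionRing D), ℓ 1 ≠ 0 := by
    by_contra hne
    push Not at hne
    exact one_ne_zero ((Module.forall_dual_apply_eq_zero_iff (FractionRing R) (1 : FractionRing D)).1 hne)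
  let g : D →ₗ[R] FractionRing R :=
    (ℓ.restrictScalars R) ∘ₗ (IsScalarTower.toAlgHom R D (FractionRing D)).toLinearMap
  obtain ⟨S, hS⟩ := (Module.Finite.fg_top (R := R) (M := D))
  obtain ⟨c, hc⟩ := IsLocalization.exist_integer_multiples (nonZeroDivisors R) S (fun i => g i)
  have hint : ∀ x : D, (c : R) • g x ∈ LinearMap.range (Algebra.linearMap R (FractionRing R)) := by
    intro x
    have hx : x ∈ Submodule.span R (S : Set D) := hS ▸ Submodule.mem_top
    induction hx using Submodule.span_induction with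
    | mem y hy => obtain ⟨r, hr⟩ := hc y hy; exact ⟨r, hr⟩
    | zero => rw [map_zero, smul_zero]; exact Submodule.zero_mem _
    | add y z _ _ hy hz => rw [map_add, smul_add]; exact Submodule.add_mem _ hy hz
    | smul r y _ hy => rw [map_smul, smul_comm]; exact Submodule.smul_mem _ _ hy
  have hiR : Function.Injective (Algebra.linearMap R (FractionRing R)) :=
    IsFractionRing.injective R (FractionRing R)
  refine ⟨(LinearEquiv.ofInjective _ hiR).symm.toLinearMap ∘ₗ
    (((c : R) • g).codRestrict _ hint), fun h0 => ?_⟩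
  have h1 := congrArg Subtype.val ((LinearEquiv.symm_apply_eq _).1 h0)
  have h2 : (c : R) • g 1 = 0 := by simpa using h1
  rw [Algebra.smul_def, mul_eq_zero] at h2
  refine h2.elim (fun h3 => ?_) (fun h3 => hℓ ?_)
  · exact nonZeroDivisors.coe_ne_zero c ((map_eq_zero_iff _ hiR).1 h3)
  · rw [← map_one (algebraMap D (FractionRing D))]
    exact h3

/-- Associated primes of `Hom_A(B, A)`. -/
theorem associatedPrimes_omega [IsNoetherianRing A] [Module.Finite A B] :
    associatedPrimes B (Disc.Omega A B) =
      {q : Ideal B | q.IsPrime ∧ q.comap (algebraMap A B) ∈ associatedPrimes A A} := by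
  classical
  haveI : IsNoetherianRing B := isNoetherian_of_isNoetherianRing_of_finite A B |> fun h =>
    isNoetherian_of_tower A h
  ext q
  simp only [Set.mem_setOf_eq, mem_ass_iff]
  constructor
  · rintro ⟨hqp, w, hann⟩
    haveI := hqp
    obtain ⟨n, g, hg⟩ := Module.Finite.exists_fin (R := A) (M := B)
    have hp : ∀ a : A, algebraMap A B a ∈ q ↔ ∀ i, a * w.toLinearMap (g i) = 0 := by
      intro a
      rw [hann]
      constructor
      · intro h i
        have h1 := congrArg (fun z : Disc.Omega A B => z.toLinearMap (g i)) h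
        simpa [← Algebra.smul_def] using h1
      · intro h
        refine Disc.Omega.ext (LinearMap.ext_on_range hg fun i => ?_)
        simpa [← Algebra.smul_def] using h i
    obtain ⟨i, hi⟩ : ∃ i, ∀ a : A, a * w.toLinearMap (g i) = 0 → algebraMap A B a ∈ q := by
      by_contra hne
      push Not at hne
      choose a ha ha' using hne
      have h1 : algebraMap A B (∏ i, a i) ∈ q := (hp _).2 fun i => by
        obtain ⟨d, hd⟩ := Finset.dvd_prod_of_mem a (Finset.mem_univ i)
        rw [hd, mul_comm (a i) d, mul_assoc, ha, mul_zero]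
      rw [map_prod] at h1
      obtain ⟨i, -, hi⟩ := hqp.prod_mem_iff.1 h1
      exact ha' i hi
    exact ⟨hqp, Ideal.IsPrime.comap _, w.toLinearMap (g i),
      fun a => ⟨fun ha => (hp a).1 ha i, fun ha => hi a ha⟩⟩
  · rintro ⟨hqp, -, a₀, ha₀⟩
    haveI := hqp
    let φ : (A ⧸ q.comap (algebraMap A B)) →ₗ[A] A :=
      Submodule.liftQ _ (LinearMap.toSpanSingleton A A a₀) fun r hr =>
        (LinearMap.mem_ker).2 ((ha₀ r).1 hr)
    have hφ : Function.Injective φ := by
      rw [← LinearMap.ker_eq_bot]
      exact Submodule.ker_liftQ_eq_bot _ _ _ fun r hr => (ha₀ r).2 (LinearMap.mem_ker.1 hr)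
    haveI : Module.Finite (A ⧸ q.comap (algebraMap A B)) (B ⧸ q) :=
      Module.Finite.of_restrictScalars_finite A _ _
    have hinj : Function.Injective (algebraMap (A ⧸ q.comap (algebraMap A B)) (B ⧸ q)) :=
      Ideal.algebraMap_quotient_injective (A := B) (I := q)
    obtain ⟨ψ, hψ⟩ := exists_functional_ne_zero hinj
    let ψA : B →ₗ[A] A :=
      φ ∘ₗ (ψ.restrictScalars A) ∘ₗ (Ideal.Quotient.mkₐ A q).toLinearMap
    refine ⟨hqp, Disc.Omega.mk ψA, fun b => ⟨fun hb => ?_, fun hb => ?_⟩⟩
    · refine Disc.Omega.ext (LinearMap.ext fun x => ?_)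
      show φ (ψ (Ideal.Quotient.mk q (b * x))) = 0
      rw [Ideal.Quotient.eq_zero_iff_mem.2 (q.mul_mem_right _ hb), map_zero, map_zero]
    · by_contra hbq
      have h1 : ∀ x : B, ψ (Ideal.Quotient.mk q b * Ideal.Quotient.mk q x) = 0 := fun x => by
        rw [← map_mul]
        apply hφ
        rw [map_zero]
        exact congrArg (fun z : Disc.Omega A B => z.toLinearMap x) hb
      haveI : Algebra.IsIntegral (A ⧸ q.comap (algebraMap A B)) (B ⧸ q) := inferInstance
      have hne : Ideal.comap (algebraMap (A ⧸ q.comap (algebraMap A B)) (B ⧸ q))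
          (Ideal.span {Ideal.Quotient.mk q b}) ≠ ⊥ :=
        Ideal.comap_ne_bot_of_integral_mem (fun h0 => hbq (Ideal.Quotient.eq_zero_iff_mem.1 h0))
          (Ideal.mem_span_singleton_self _) (Algebra.IsIntegral.isIntegral _)
      obtain ⟨c, hc, hc0⟩ := Submodule.exists_mem_ne_zero_of_ne_bot hne
      obtain ⟨y, hy⟩ := Ideal.mem_span_singleton'.1 (Ideal.mem_comap.1 hc)
      obtain ⟨y, rfl⟩ := Ideal.Quotient.mk_surjective y
      have h2 : ψ (c • (1 : B ⧸ q)) = 0 := by
        rw [Algebra.smul_def, mul_one, ← hy, mul_comm]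
        exact h1 y
      rw [map_smul, smul_eq_mul] at h2
      exact hψ ((mul_eq_zero.1 h2).resolve_left hc0)

end Groth.Agent.DiscLib
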