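import Mathlib
import Groth.Prelude.Def_Disc

/-!
# The Noether different and the duality pairing
-/

set_option autoImplicit false
set_option backward.isDefEq.respectTransparency false

universe u v

open TensorProduct

namespace Groth.Agent.DiscLib

variable {A : Type u} {B : Type v} [CommRing A] [CommRing B] [Algebra A B]

/-- The pairing of a tensor with a functional. -/
noncomputable abbrev pair (l : Disc.Omega A B) : B ⊗[A] B →ₗ[A] B :=
  TensorProduct.lift ((LinearMap.lsmul A B).comp l.toLinearMap)

theorem pair_tmul (l : Disc.Omega A B) (b c : B) : pair l (b ⊗ₜ c) = l.toLinearMap b • c := by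
  simp [pair]

theorem pair_mul_left (l : Disc.Omega A B) (b : B) (ξ : B ⊗[A] B) :
    pair l ((b ⊗ₜ (1 : B)) * ξ) = pair (b • l) ξ := by
  induction ξ using TensorProduct.induction_on with
  | zero => simp
  | tmul x y => rw [Algebra.TensorProduct.tmul_mul_tmul, one_mul, pair_tmul, pair_tmul]; rfl
  | add x y hx hy => rw [mul_add, map_add, map_add, hx, hy]

theorem pair_mul_right (l : Disc.Omega A B) (b : B) (ξ : B ⊗[A] B) :
    pair l (((1 : B) ⊗ₜ b) * ξ) = b * pair l ξ := by
  induction ξ using TensorProduct.induction_on with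
  | zero => simp
  | tmul x y => rw [Algebra.TensorProduct.tmul_mul_tmul, one_mul, pair_tmul, pair_tmul, mul_smul_comm]
  | add x y hx hy => rw [mul_add, map_add, map_add, hx, hy, mul_add]

theorem pair_add (l m : Disc.Omega A B) (ξ : B ⊗[A] B) : pair (l + m) ξ = pair l ξ + pair m ξ := by
  induction ξ using TensorProduct.induction_on with
  | zero => simp
  | tmul x y => rw [pair_tmul, pair_tmul, pair_tmul, ← add_smul]; rfl
  | add x y hx hy => rw [map_add, map_add, map_add, hx, hy]; abel

theorem mem_annihilator_iff (ξ : B ⊗[A] B) :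
    ξ ∈ Submodule.annihilator (RingHom.ker (Algebra.TensorProduct.lmul' (S := B) A)) ↔
      ∀ b : B, (b ⊗ₜ[A] (1 : B)) * ξ = ((1 : B) ⊗ₜ[A] b) * ξ := by
  have hker : RingHom.ker (Algebra.TensorProduct.lmul' (S := B) A) =
      Ideal.span (Set.range fun s : B => (1 : B) ⊗ₜ[A] s - s ⊗ₜ[A] (1 : B)) :=
    (KaehlerDifferential.span_range_eq_ideal A B).symm
  rw [hker, Ideal.span, Submodule.mem_annihilator_span]
  constructor
  · intro h b
    have := h ⟨_, b, rfl⟩
    rw [smul_eq_mul, mul_sub, sub_eq_zero, mul_comm, mul_comm ξ] at this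
    exact this.symm
  · rintro h ⟨_, b, rfl⟩
    rw [smul_eq_mul, mul_sub, sub_eq_zero, mul_comm, mul_comm ξ]
    exact (h b).symm

section basis

variable {ι : Type*} [Fintype ι] (e : Module.Basis ι A B)

include e in
theorem pair_injective {ξ η : B ⊗[A] B} (h : ∀ l : Disc.Omega A B, pair l ξ = pair l η) : ξ = η := by
  classical
  have hrec : ∀ ζ : B ⊗[A] B, ζ = ∑ i, e i ⊗ₜ pair ⟨e.coord i⟩ ζ := fun ζ => by
    induction ζ using TensorProduct.induction_on with
    | zero => simp
    | tmul x y =>
      conv_lhs => rw [← e.sum_repr x, TensorProduct.sum_tmul]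
      refine Finset.sum_congr rfl fun i _ => ?_
      rw [pair_tmul, TensorProduct.smul_tmul]
      rfl
    | add x y hx hy =>
      conv_lhs => rw [hx, hy]
      simp only [map_add, TensorProduct.tmul_add, Finset.sum_add_distrib]
  rw [hrec ξ, hrec η]
  simp_rw [h]

theorem pair_sum (f : ι → B) (l : Disc.Omega A B) :
    pair l (∑ i, e i ⊗ₜ f i) = ∑ i, l.toLinearMap (e i) • f i := by
  rw [map_sum]
  simp_rw [pair_tmul]

theorem omega_eq_sum (l : Disc.Omega A B) :
    l = ∑ i, algebraMap A B (l.toLinearMap (e i)) • (⟨e.coord i⟩ : Disc.Omega A B) := by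
  apply Disc.Omega.ext
  refine e.ext fun j => ?_
  let ev : Disc.Omega A B →+ A := AddMonoidHom.mk' (fun m => m.toLinearMap (e j)) fun a b => rfl
  show ev l = ev _
  rw [map_sum, Finset.sum_eq_single j]
  · show l.toLinearMap (e j) = e.coord j (algebraMap A B (l.toLinearMap (e j)) * e j)
    rw [← Algebra.smul_def, map_smul, Module.Basis.coord_apply, e.repr_self, Finsupp.single_eq_same, smul_eq_mul,
      mul_one]
  · intro i _ hij
    show e.coord i (algebraMap A B (l.toLinearMap (e i)) * e j) = 0
    rw [← Algebra.smul_def, map_smul, Module.Basis.coord_apply, e.repr_self, Finsupp.single_eq_of_ne hij, smul_zero]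
  · simp

theorem pair_repr (Φ : Disc.Omega A B →ₗ[B] B) (l : Disc.Omega A B) :
    pair l (∑ i, e i ⊗ₜ Φ ⟨e.coord i⟩) = Φ l := by
  rw [pair_sum]
  conv_rhs => rw [omega_eq_sum e l, map_sum]
  refine Finset.sum_congr rfl fun i _ => ?_
  rw [map_smul, Algebra.smul_def, smul_eq_mul]

theorem repr_mem_annihilator (Φ : Disc.Omega A B →ₗ[B] B) :
    (∑ i, e i ⊗ₜ[A] Φ ⟨e.coord i⟩) ∈ Submodule.annihilator (RingHom.ker (Algebra.TensorProduct.lmul' (S := B) A)) := by
  rw [mem_annihilator_iff]
  refine fun b => pair_injective e fun l => ?_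
  rw [pair_mul_left, pair_mul_right, pair_repr, pair_repr, map_smul, smul_eq_mul]

include e in
/-- The duality between the annihilator of the diagonal ideal and linear maps on the dualizing module. -/
theorem existsUnique_pair (Φ : Disc.Omega A B →ₗ[B] B) :
    ∃! ξ : B ⊗[A] B,
      ξ ∈ Submodule.annihilator (RingHom.ker (Algebra.TensorProduct.lmul' (S := B) A)) ∧
        ∀ l : Disc.Omega A B, Φ l = pair l ξ :=
  ⟨_, ⟨repr_mem_annihilator e Φ, fun l => (pair_repr e Φ l).symm⟩,
    fun η hη => pair_injective e fun l => by rw [pair_repr, ← hη.2 l]⟩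

include e in
theorem noetherDifferent_eq_range [Module.Free A B] [Module.Finite A B] :
    (Disc.noetherDifferent A B : Set B) =
      Set.range (fun φ : Disc.Omega A B →ₗ[B] B => φ (Disc.Omega.trace A B)) := by
  classical
  have hτ : Disc.Omega.trace A B = ∑ i, e i • (⟨e.coord i⟩ : Disc.Omega A B) := by
    apply Disc.Omega.ext
    refine LinearMap.ext fun x => ?_
    let ev : Disc.Omega A B →+ A := AddMonoidHom.mk' (fun m => m.toLinearMap x) fun a b => rfl
    show Algebra.trace A B x = ev _
    rw [map_sum, Algebra.trace_eq_matrix_trace e, Matrix.trace]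
    refine Finset.sum_congr rfl fun i _ => ?_
    rw [Matrix.diag_apply, Algebra.leftMulMatrix_eq_repr_mul, mul_comm]
    rfl
  have hsurj : Function.Surjective (Algebra.TensorProduct.lmul' (S := B) A) := fun b =>
    ⟨b ⊗ₜ 1, by rw [Algebra.TensorProduct.lmul'_apply_tmul, mul_one]⟩
  have hμ : ∀ Φ : Disc.Omega A B →ₗ[B] B,
      Algebra.TensorProduct.lmul' (S := B) A (∑ i, e i ⊗ₜ Φ ⟨e.coord i⟩) = Φ (Disc.Omega.trace A B) := fun Φ => by
    rw [map_sum, hτ, map_sum]
    exact Finset.sum_congr rfl fun i _ => by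
      rw [Algebra.TensorProduct.lmul'_apply_tmul, map_smul, smul_eq_mul]
  ext b
  rw [SetLike.mem_coe, Disc.noetherDifferent, Ideal.mem_map_iff_of_surjective _ hsurj]
  constructor
  · rintro ⟨ξ, hξ, rfl⟩
    let Φ : Disc.Omega A B →ₗ[B] B :=
      { toFun := fun l => pair l ξ
        map_add' := fun l m => pair_add l m ξ
        map_smul' := fun c l => by
          rw [RingHom.id_apply, smul_eq_mul, ← pair_mul_left, (mem_annihilator_iff ξ).1 hξ c, pair_mul_right] }
    refine ⟨Φ, ?_⟩
    show Φ (Disc.Omega.trace A B) = _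
    rw [← hμ, pair_injective e (fun l => pair_repr e Φ l : ∀ l, pair l (∑ i, e i ⊗ₜ Φ ⟨e.coord i⟩) = pair l ξ)]
  · rintro ⟨Φ, rfl⟩
    exact ⟨_, repr_mem_annihilator e Φ, hμ Φ⟩

theorem norm_mem_span_discr [DecidableEq ι] [Module.Free A B] [Module.Finite A B] {x : B}
    (hx : x ∈ Disc.differentSet A B) : Algebra.norm A x ∈ Ideal.span {Algebra.discr A e} := by
  choose c hc using fun i => hx (e.coord i)
  let C : Matrix ι ι A := fun i k => e.repr (c i) k
  have h : Algebra.leftMulMatrix e x = C * Algebra.traceMatrix A e := by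
    ext i j
    rw [Algebra.leftMulMatrix_eq_repr_mul, Matrix.mul_apply]
    refine (hc i (e j)).trans ?_
    conv_lhs => rw [← e.sum_repr (c i), Finset.sum_mul, map_sum]
    refine Finset.sum_congr rfl fun k _ => ?_
    rw [smul_mul_assoc, map_smul, smul_eq_mul, Algebra.traceMatrix_apply, Algebra.traceForm_apply]
  rw [Algebra.norm_eq_matrix_det e, h, Matrix.det_mul, Ideal.mem_span_singleton, Algebra.discr_def]
  exact dvd_mul_left _ _

end basis

/-- The Noether different cuts out the ramification locus. -/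
theorem zeroLocus_noetherDifferent [Algebra.FiniteType A B] :
    {q : PrimeSpectrum B | Disc.noetherDifferent A B ≤ q.asIdeal} = (Algebra.unramifiedLocus A B)ᶜ := by
  set I := KaehlerDifferential.ideal A B with hI
  set T := B ⊗[A] B
  let μ : T →ₐ[A] B := Algebra.TensorProduct.lmul' (S := B) A
  have hfg : I.FG := KaehlerDifferential.ideal_fg A B
  ext q
  rw [Set.mem_setOf_eq, Algebra.unramifiedLocus_eq_compl_support, compl_compl]
  have hsurj : Function.Surjective μ := fun b =>
    ⟨b ⊗ₜ 1, (Algebra.TensorProduct.lmul'_apply_tmul (R := A) b 1).trans (mul_one b)⟩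
  constructor
  · intro h
    by_contra hq
    haveI : Module.Finite B (KaehlerDifferential A B) := inferInstance
    rw [Module.mem_support_iff_of_finite, SetLike.not_le_iff_exists] at hq
    obtain ⟨s, hs, hsq⟩ := hq
    haveI : Module.Finite T I := Module.Finite.iff_fg.2 hfg
    let f : Module.End T I := (s ⊗ₜ[A] (1 : B) : T) • LinearMap.id
    have hf : LinearMap.range f ≤ I • ⊤ := by
      rintro _ ⟨x, rfl⟩
      have h0 : I.toCotangent ((s ⊗ₜ[A] (1 : B) : T) • x) = 0 := by
        rw [map_smul, show (s ⊗ₜ[A] (1 : B) : T) = algebraMap B T s from rfl, algebraMap_smul]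
        exact Module.mem_annihilator.1 hs (I.toCotangent x)
      rw [Ideal.toCotangent_eq_zero, pow_two] at h0
      have : f x ∈ Submodule.comap (Submodule.subtype I) (I * I) := h0
      rwa [← Ideal.smul_eq_mul, show (I • I : Ideal T) = Submodule.map (Submodule.subtype I) (I • ⊤) by
        rw [Submodule.map_smul'', Submodule.map_top, Submodule.range_subtype], Submodule.comap_map_eq_of_injective
        (Submodule.subtype_injective I)] at this
    obtain ⟨p, hp, -, hpc, hpf⟩ := LinearMap.exists_monic_and_natDegree_eq_and_coeff_mem_pow_and_aeval_eq_zero T f I hf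
    set ξ : T := p.eval (s ⊗ₜ[A] (1 : B) : T) with hξ
    have hξI : ξ ∈ Submodule.annihilator I := by
      rw [Submodule.mem_annihilator]
      intro x hx
      have h1 : ∀ (r : Polynomial T) (y : I), (Polynomial.aeval f r) y = r.eval (s ⊗ₜ[A] (1 : B) : T) • y := by
        intro r y
        induction r using Polynomial.induction_on' with
        | add a b ha hb => rw [map_add, LinearMap.add_apply, ha, hb, Polynomial.eval_add, add_smul]
        | monomial m a =>
          rw [Polynomial.aeval_monomial, Polynomial.eval_monomial, Module.End.mul_apply, Module.algebraMap_end_apply,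
            mul_smul]
          congr 1
          induction m with
          | zero => simp
          | succ m ih => rw [pow_succ', Module.End.mul_apply, ih, pow_succ', mul_smul]; rfl
      have := congrArg Subtype.val (h1 p ⟨x, hx⟩)
      rw [hpf] at this
      exact this.symm
    have hμ : μ ξ = s ^ p.natDegree := by
      rw [hξ, Polynomial.eval_eq_sum_range, map_sum, Finset.sum_range_succ, Finset.sum_eq_zero, zero_add,
        Polynomial.Monic.coeff_natDegree hp, one_mul, map_pow]
      · rw [show μ (s ⊗ₜ[A] (1 : B)) = s from (Algebra.TensorProduct.lmul'_apply_tmul (R := A) s 1).trans (mul_one s)]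
      · intro i hi
        rw [map_mul]
        have h2 : p.coeff i ∈ I := Ideal.pow_le_self (by rw [Finset.mem_range] at hi; omega) (hpc i)
        rw [show μ (p.coeff i) = 0 from h2, zero_mul]
    exact hsq (q.isPrime.mem_of_pow_mem _ (hμ ▸ h (Ideal.mem_map_of_mem μ hξI)))
  · intro hq b hb
    rw [Disc.noetherDifferent, Ideal.mem_map_iff_of_surjective _ hsurj] at hb
    obtain ⟨ξ, hξ, rfl⟩ := hb
    refine Module.mem_support_iff_of_finite.1 hq ?_
    rw [Module.mem_annihilator]
    intro z
    obtain ⟨x, rfl⟩ := I.toCotangent_surjective z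
    have h1 : (ξ - (μ ξ) ⊗ₜ[A] (1 : B)) ∈ I := by
      show μ _ = 0
      rw [map_sub, sub_eq_zero]
      exact ((Algebra.TensorProduct.lmul'_apply_tmul (R := A) (μ ξ) 1).trans (mul_one _)).symm
    have h2 : (μ ξ ⊗ₜ[A] (1 : B) : T) • I.toCotangent x = 0 := by
      rw [show (μ ξ ⊗ₜ[A] (1 : B) : T) = ξ - (ξ - (μ ξ) ⊗ₜ[A] (1 : B)) by abel, sub_smul, ← map_smul,
        Ideal.Cotangent.smul_eq_zero_of_mem h1, sub_zero]
      rw [show ξ • x = 0 from Subtype.ext (Submodule.mem_annihilator.1 hξ x x.2), map_zero]
    rw [show (μ ξ ⊗ₜ[A] (1 : B) : T) = algebraMap B T (μ ξ) from rfl, algebraMap_smul] at h2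
    exact h2

end Groth.Agent.DiscLib
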