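import Groth.Agent.DiscLib.Basic

/-!
# Comparing the different with the Noether different
-/

set_option autoImplicit false
set_option backward.isDefEq.respectTransparency false

universe u v

open TensorProduct

namespace Groth.Agent.DiscLib

variable {A : Type u} {B : Type v} [CommRing A] [CommRing B] [Algebra A B] [Module.Free A B] [Module.Finite A B]

theorem mem_differentSet_iff (b : B) :
    b ∈ Disc.differentSet A B ↔ ∀ l : Disc.Omega A B, ∃ c : B, b • l = c • Disc.Omega.trace A B := by
  constructor
  · intro h l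
    obtain ⟨c, hc⟩ := h l.toLinearMap
    exact ⟨c, Disc.Omega.ext (LinearMap.ext hc)⟩
  · intro h φ
    obtain ⟨c, hc⟩ := h ⟨φ⟩
    exact ⟨c, fun x => congrArg (fun m : Disc.Omega A B => m.toLinearMap x) hc⟩

theorem eq_zero_of_smul_omega {c : B} (h : ∀ l : Disc.Omega A B, c • l = 0) : c = 0 := by
  let e := Module.Free.chooseBasis A B
  refine e.repr.map_eq_zero_iff.1 (Finsupp.ext fun i => ?_)
  have := congrArg (fun m : Disc.Omega A B => m.toLinearMap 1) (h ⟨e.coord i⟩)
  simpa using this

theorem pair_trace_eq_mul {ξ : B ⊗[A] B}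
    (hξ : ξ ∈ Submodule.annihilator (RingHom.ker (Algebra.TensorProduct.lmul' (S := B) A))) :
    pair (Disc.Omega.trace A B) ξ = Algebra.TensorProduct.lmul' (S := B) A ξ := by
  classical
  let e := Module.Free.chooseBasis A B
  let Φ : Disc.Omega A B →ₗ[B] B :=
    { toFun := fun l => pair l ξ
      map_add' := fun l m => pair_add l m ξ
      map_smul' := fun c l => by
        rw [RingHom.id_apply, smul_eq_mul, ← pair_mul_left, (mem_annihilator_iff ξ).1 hξ c, pair_mul_right] }
  have h1 : (∑ i, e i ⊗ₜ Φ ⟨e.coord i⟩) = ξ := pair_injective e fun l => pair_repr e Φ l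
  have hτ : Disc.Omega.trace A B = ∑ i, e i • (⟨e.coord i⟩ : Disc.Omega A B) := by
    apply Disc.Omega.ext
    refine LinearMap.ext fun x => ?_
    let ev : Disc.Omega A B →+ A := AddMonoidHom.mk' (fun m => m.toLinearMap x) fun a b => rfl
    show Algebra.trace A B x = ev _
    rw [map_sum, Algebra.trace_eq_matrix_trace e, Matrix.trace]
    refine Finset.sum_congr rfl fun i _ => ?_
    rw [Matrix.diag_apply, Algebra.leftMulMatrix_eq_repr_mul, mul_comm]
    rfl
  conv_rhs => rw [← h1, map_sum]
  show Φ (Disc.Omega.trace A B) = _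
  rw [hτ, map_sum]
  exact Finset.sum_congr rfl fun i _ => by
    rw [map_smul, Algebra.TensorProduct.lmul'_apply_tmul, smul_eq_mul]

/-- Maps on the dualizing module are symmetric against the trace. -/
theorem smul_comm_trace (Φ : Disc.Omega A B →ₗ[B] B) (l : Disc.Omega A B) :
    Φ l • Disc.Omega.trace A B = Φ (Disc.Omega.trace A B) • l := by
  classical
  let e := Module.Free.chooseBasis A B
  have hcomm : ∀ ξ, ξ ∈ Submodule.annihilator (RingHom.ker (Algebra.TensorProduct.lmul' (S := B) A)) →
      (Algebra.TensorProduct.comm A B B) ξ ∈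
        Submodule.annihilator (RingHom.ker (Algebra.TensorProduct.lmul' (S := B) A)) := fun ξ hξ => by
    rw [mem_annihilator_iff] at hξ ⊢
    intro b
    have h := congrArg (Algebra.TensorProduct.comm A B B) (hξ b)
    rw [map_mul, map_mul, Algebra.TensorProduct.comm_tmul, Algebra.TensorProduct.comm_tmul] at h
    exact h.symm
  refine Disc.Omega.ext (LinearMap.ext fun x => ?_)
  have hm : (x ⊗ₜ[A] (1 : B)) * (Algebra.TensorProduct.comm A B B) (∑ i, e i ⊗ₜ Φ ⟨e.coord i⟩) ∈
      Submodule.annihilator (RingHom.ker (Algebra.TensorProduct.lmul' (S := B) A)) :=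
    Ideal.mul_mem_left _ _ (hcomm _ (repr_mem_annihilator e Φ))
  have key := pair_trace_eq_mul hm
  simp only [map_sum, Finset.mul_sum, Algebra.TensorProduct.comm_tmul, Algebra.TensorProduct.tmul_mul_tmul, one_mul,
    pair_tmul, Algebra.TensorProduct.lmul'_apply_tmul] at key
  have h2 : ∀ m, Φ m = ∑ i, m.toLinearMap (e i) • Φ ⟨e.coord i⟩ := fun m => by rw [← pair_repr e Φ m, pair_sum]
  show (Disc.Omega.trace A B).toLinearMap (Φ l * x) = l.toLinearMap (Φ (Disc.Omega.trace A B) * x)
  have h3 := congrArg l.toLinearMap key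
  rw [map_sum] at h3
  simp only [map_smul, smul_eq_mul] at h3
  rw [h2 l, Finset.sum_mul, map_sum]
  rw [show Φ (Disc.Omega.trace A B) * x = ∑ i, x * Φ ⟨e.coord i⟩ * e i by
    have h4 := congrArg (Algebra.TensorProduct.lmul' (S := B) A) (rfl :
      (∑ i, e i ⊗ₜ Φ ⟨e.coord i⟩) = (∑ i, e i ⊗ₜ[A] Φ ⟨e.coord i⟩))
    have h5 := pair_trace_eq_mul (repr_mem_annihilator e Φ)
    rw [pair_repr, map_sum] at h5
    rw [h5, Finset.sum_mul]
    refine Finset.sum_congr rfl fun i _ => ?_
    rw [Algebra.TensorProduct.lmul'_apply_tmul]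
    ring, ← h3]
  refine Finset.sum_congr rfl fun i _ => ?_
  show Algebra.trace A B (l.toLinearMap (e i) • Φ ⟨e.coord i⟩ * x) = _
  rw [smul_mul_assoc, map_smul, smul_eq_mul, mul_comm, mul_comm x]
  rfl

theorem noetherDifferent_subset : (Disc.noetherDifferent A B : Set B) ⊆ Disc.differentSet A B := by
  rw [noetherDifferent_eq_range (Module.Free.chooseBasis A B)]
  rintro _ ⟨Φ, rfl⟩
  exact (mem_differentSet_iff _).2 fun l => ⟨Φ l, (smul_comm_trace Φ l).symm⟩

theorem mul_self_mem_noetherDifferent {b : B} (hb : b ∈ Disc.differentSet A B) :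
    b * b ∈ Disc.noetherDifferent A B := by
  have h := (mem_differentSet_iff b).1 hb
  choose c hc using h
  have hann : ∀ r : B, r • Disc.Omega.trace A B = 0 → b * r = 0 := fun r hr => eq_zero_of_smul_omega (A := A) fun l => by
    rw [mul_comm b r, mul_smul, hc, smul_comm, hr, smul_zero]
  let Φ : Disc.Omega A B →ₗ[B] B :=
    { toFun := fun l => b * c l
      map_add' := fun l m => by
        rw [← sub_eq_zero, ← mul_add, ← mul_sub]
        refine hann _ ?_
        rw [sub_smul, add_smul, ← hc, ← hc, ← hc, smul_add, sub_self]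
      map_smul' := fun r l => by
        rw [RingHom.id_apply, smul_eq_mul, mul_left_comm r b, ← sub_eq_zero, ← mul_sub]
        refine hann _ ?_
        rw [sub_smul, mul_smul, ← hc, ← hc, smul_comm, sub_self] }
  have h2 : Φ (Disc.Omega.trace A B) = b * b := by
    show b * c _ = b * b
    rw [← sub_eq_zero, ← mul_sub]
    refine hann _ ?_
    rw [sub_smul, ← hc, sub_self]
  rw [← SetLike.mem_coe, noetherDifferent_eq_range (Module.Free.chooseBasis A B)]
  exact ⟨Φ, h2⟩

theorem differentSet_subset_iff (q : Ideal B) [q.IsPrime] :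
    Disc.differentSet A B ⊆ q ↔ ¬ Algebra.IsUnramifiedAt A q := by
  have h1 : Disc.differentSet A B ⊆ q ↔ Disc.noetherDifferent A B ≤ q :=
    ⟨fun h x hx => h (noetherDifferent_subset hx),
      fun h b hb => (‹q.IsPrime›.mem_or_mem (h (mul_self_mem_noetherDifferent hb))).elim id id⟩
  rw [h1]
  exact Set.ext_iff.1 (zeroLocus_noetherDifferent (A := A) (B := B)) ⟨q, inferInstance⟩

theorem differentSet_eq [Module.Invertible B (Disc.Omega A B)] :
    Disc.differentSet A B = (Disc.noetherDifferent A B : Set B) := by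
  refine Set.Subset.antisymm (fun b hb => ?_) noetherDifferent_subset
  obtain ⟨t, ht⟩ := (Module.Invertible.bijective (R := B) (M := Disc.Omega A B)).2 1
  have hD : ∀ Φ : Disc.Omega A B →ₗ[B] B, Φ (Disc.Omega.trace A B) ∈ Disc.noetherDifferent A B := fun Φ => by
    rw [← SetLike.mem_coe, noetherDifferent_eq_range (Module.Free.chooseBasis A B)]
    exact ⟨Φ, rfl⟩
  suffices h : ∀ t, b * contractLeft B (Disc.Omega A B) t ∈ Disc.noetherDifferent A B by
    simpa [ht] using h t
  intro t
  induction t using TensorProduct.induction_on with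
  | zero => simp
  | tmul ψ l =>
    obtain ⟨c, hc⟩ := (mem_differentSet_iff b).1 hb l
    rw [contractLeft_apply, ← smul_eq_mul, ← map_smul, hc, map_smul]
    exact Ideal.mul_mem_left _ _ (hD ψ)
  | add x y hx hy => rw [map_add, mul_add]; exact add_mem hx hy

theorem span_norm_differentSet {ι : Type} [Fintype ι] [DecidableEq ι] (e : Module.Basis ι A B)
    [Module.Invertible B (Disc.Omega A B)] :
    Ideal.span (Algebra.norm A '' Disc.differentSet A B) = Ideal.span {Algebra.discr A e} := by
  refine le_antisymm (Ideal.span_le.2 (Set.image_subset_iff.2 fun x hx => norm_mem_span_discr e hx)) ?_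
  rw [Ideal.span_singleton_le_iff_mem]
  set J := Ideal.span (Algebra.norm A '' Disc.differentSet A B)
  have key : ∀ (Φ : Disc.Omega A B →ₗ[B] B) (l : Disc.Omega A B),
      Algebra.discr A e * Algebra.norm A (Φ l) ∈ J := fun Φ l => by
    let Λ : Matrix ι ι A := fun i j => l.toLinearMap (e i * e j)
    have h : Algebra.traceMatrix A e * Algebra.leftMulMatrix e (Φ l) =
        Λ * Algebra.leftMulMatrix e (Φ (Disc.Omega.trace A B)) := by
      ext i j
      rw [Matrix.mul_apply, Matrix.mul_apply]
      have hh := congrArg (fun m : Disc.Omega A B => m.toLinearMap (e i * e j)) (smul_comm_trace Φ l)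
      simp only [Disc.Omega.smul_toLinearMap_apply] at hh
      refine Eq.trans ?_ (hh.trans ?_)
      · show _ = Algebra.trace A B (Φ l * (e i * e j))
        rw [show Φ l * (e i * e j) = e i * (Φ l * e j) by ring]
        conv_rhs => rw [← e.sum_repr (Φ l * e j), Finset.mul_sum, map_sum]
        refine Finset.sum_congr rfl fun k _ => ?_
        rw [mul_smul_comm, map_smul, smul_eq_mul, Algebra.leftMulMatrix_eq_repr_mul, Algebra.traceMatrix_apply,
          Algebra.traceForm_apply, mul_comm]
      · rw [show Φ (Disc.Omega.trace A B) * (e i * e j) = e i * (Φ (Disc.Omega.trace A B) * e j) by ring]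
        conv_lhs => rw [← e.sum_repr (Φ (Disc.Omega.trace A B) * e j), Finset.mul_sum, map_sum]
        refine Finset.sum_congr rfl fun k _ => ?_
        rw [mul_smul_comm, map_smul, smul_eq_mul, Algebra.leftMulMatrix_eq_repr_mul, mul_comm]
    have hd := congrArg Matrix.det h
    rw [Matrix.det_mul, Matrix.det_mul, ← Algebra.norm_eq_matrix_det, ← Algebra.norm_eq_matrix_det,
      ← Algebra.discr_def] at hd
    rw [hd]
    refine Ideal.mul_mem_left _ _ (Ideal.subset_span ⟨_, ?_, rfl⟩)
    rw [differentSet_eq, noetherDifferent_eq_range e]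
    exact ⟨Φ, rfl⟩
  have htop : Ideal.span {a : A | ∃ (Φ : Disc.Omega A B →ₗ[B] B) (l : Disc.Omega A B),
      Algebra.norm A (Φ l) = a} = ⊤ := by
    by_contra hne
    obtain ⟨m, hm, hle⟩ := Ideal.exists_le_maximal _ hne
    let k := A ⧸ m
    let Bm := B ⧸ m.map (algebraMap A B)
    letI := Ideal.Quotient.field m
    haveI : Module.Finite k Bm := Module.Finite.of_restrictScalars_finite A _ _
    haveI : IsArtinianRing Bm := IsArtinianRing.of_finite k Bm
    haveI : Finite (MaximalSpectrum Bm) := inferInstance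
    haveI : Subsingleton (CommRing.Pic Bm) := inferInstance
    obtain ⟨g⟩ : Nonempty (Bm ⊗[B] Disc.Omega A B ≃ₗ[Bm] Bm) := Module.Invertible.free_iff_linearEquiv.1
      (Module.free_of_flat_of_finrank_eq _ _ 1 fun P => by letI := Ideal.Quotient.field P.asIdeal; exact Module.Invertible.finrank_eq_one ..)
    let π : Disc.Omega A B →ₗ[B] Bm := (g.restrictScalars B).toLinearMap ∘ₗ (TensorProduct.mk B Bm _ 1)
    obtain ⟨ψ, hψ⟩ := Module.projective_lifting_property (Submodule.mkQ (m.map (algebraMap A B))) π
      (Submodule.mkQ_surjective _)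
    have hsurj : Function.Surjective π := fun z => by
      obtain ⟨w, hw⟩ := TensorProduct.mk_surjective B (Disc.Omega A B) Bm Ideal.Quotient.mk_surjective (g.symm z)
      exact ⟨w, by show g (1 ⊗ₜ w) = z; rw [show (1 : Bm) ⊗ₜ[B] w = g.symm z from hw, g.apply_symm_apply]⟩
    obtain ⟨l, hl⟩ := hsurj 1
    have h1 : Ideal.Quotient.mk (m.map (algebraMap A B)) (ψ l) = 1 :=
      (LinearMap.congr_fun hψ l).trans hl
    have h2 : Ideal.Quotient.mk m (Algebra.norm A (ψ l)) = 1 := by
      rw [Algebra.norm_eq_matrix_det e, RingHom.map_det]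
      have : (Ideal.Quotient.mk m).mapMatrix (Algebra.leftMulMatrix e (ψ l)) = 1 := by
        ext i j
        rw [RingHom.mapMatrix_apply, Matrix.map_apply, Algebra.leftMulMatrix_eq_repr_mul]
        have hr : (ψ l - 1) * e j ∈ m • (⊤ : Submodule A B) := by
          rw [Ideal.smul_top_eq_map]
          exact Ideal.mul_mem_right _ _ (Ideal.Quotient.eq.1 (h1.trans (map_one _).symm))
        rw [sub_mul, one_mul] at hr
        have hco : e.coord i (ψ l * e j - e j) ∈ m := by
          refine Submodule.smul_induction_on hr (fun r hr x _ => ?_) (fun x y hx hy => ?_)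
          · rw [map_smul, smul_eq_mul]; exact m.mul_mem_right _ hr
          · rw [map_add]; exact add_mem hx hy
        rw [map_sub, Module.Basis.coord_apply, Module.Basis.coord_apply, ← Ideal.Quotient.eq] at hco
        rw [hco, e.repr_self, Matrix.one_apply, Finsupp.single_apply]
        by_cases hij : i = j
        · subst hij; simp
        · rw [if_neg (Ne.symm hij), if_neg hij, map_zero]
      rw [this, Matrix.det_one]
    rw [Ideal.Quotient.eq_zero_iff_mem.2 (hle (Ideal.subset_span ⟨ψ, l, rfl⟩))] at h2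
    exact zero_ne_one h2
  have : ∀ a ∈ Ideal.span {a : A | ∃ (Φ : Disc.Omega A B →ₗ[B] B) (l : Disc.Omega A B),
      Algebra.norm A (Φ l) = a}, Algebra.discr A e * a ∈ J := fun a ha => by
    induction ha using Submodule.span_induction with
    | mem x hx => obtain ⟨Φ, l, rfl⟩ := hx; exact key Φ l
    | zero => simp
    | add x y _ _ hx hy => rw [mul_add]; exact add_mem hx hy
    | smul r x _ hx => rw [smul_eq_mul, mul_left_comm]; exact J.mul_mem_left _ hx
  simpa using this 1 (htop ▸ Submodule.mem_top)

end Groth.Agent.DiscLib
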